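import Groth.Agent.CIDivLib.Conormal
import Groth.Agent.AdjFormLib.Main
import Groth.Agent.AdjFormLib.PnTop
import Groth.Agent.RegConLib.DetSeq
import Groth.Agent.CanonRestrLib.Main
import Groth.Agent.CohCmpLib.LineBundle
import Groth.Agent.SmoothPtLib.Scheme
import Groth.Agent.OmegaPnLib.Main
import Groth.Agent.PicPnLib.BaseChange
import Groth.Agent.CubeConsLib.IsoCls

/-!
# The canonical module of an intersection of two quadrics in `P^4`
-/

set_option autoImplicit false
set_option linter.style.haveILetI false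
set_option linter.unusedSectionVars false
set_option maxHeartbeats 1000000
set_option backward.isDefEq.respectTransparency false
set_option backward.isDefEq.respectTransparency.types false
universe u

open CategoryTheory CategoryTheory.Limits AlgebraicGeometry

noncomputable section

namespace CIQuadCanonLib

theorem isExtPow_one {X : Scheme.{u}} (E : X.Modules) : ExtPow.IsExtPow 1 E E := by
  refine ⟨fun U => (exteriorPower.oneEquiv Γ(X, U.1) (E.val.obj (Opposite.op U.1))).symm, fun U V h e => ?_⟩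
  rw [LinearEquiv.symm_symm, LinearEquiv.symm_symm, exteriorPower.oneEquiv_ιMulti, exteriorPower.oneEquiv_ιMulti]

/-- The determinant of a sum of two copies of an invertible module. -/
theorem nonempty_det_two {X : Scheme.{u}} {A : X.Modules} (hA : PicF.IsInvertible A) {L : X.Modules}
    (hL : ExtPow.IsExtPow 2 (⨁ fun _ : Fin 2 => A) L) : Nonempty (L ≅ CohB1.tensorMod A A) := by
  classical
  let F : Fin 2 → X.Modules := fun _ => A
  let S : ShortComplex X.Modules := ShortComplex.mk (biproduct.ι F 0) (biproduct.π F 1)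
    (biproduct.ι_π_ne F (by decide))
  have hsum : biproduct.π F 0 ≫ biproduct.ι F 0 + biproduct.π F 1 ≫ biproduct.ι F 1 = 𝟙 (⨁ F) := by
    rw [← biproduct.total (f := F), Fin.sum_univ_two]
  let sp : S.Splitting :=
    { r := biproduct.π F 0
      s := biproduct.ι F 1
      f_r := biproduct.ι_π_self F 0
      s_g := biproduct.ι_π_self F 1
      id := hsum }
  have hr := (CohCmpLib.invertible_iff_rank_one A).1 hA
  exact RegConLib.nonempty_det_ses (a := 1) (c := 1) S sp.shortExact hr hr (isExtPow_one A) hL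
    (isExtPow_one A)

theorem main (k : Type u) [Field k] [IsAlgClosed k] (X : Scheme.{u})
    [X.Over (Spec (CommRingCat.of k))] [IsIntegral X] [Smooth (X ↘ (Spec (CommRingCat.of k)))] (hdim : topologicalKrullDim X = 2)
    (ι : X ⟶ CohB1.ProjSpace 4 k) [IsClosedImmersion ι] (hι : ι ≫ CohB1.ProjSpace.toSpec 4 k = X ↘ (Spec (CommRingCat.of k)))
    (G : Fin 2 → LefPen.Form 4 k 2) (hker : ι.ker = LefPen.ciIdeal G)
    (W : X.Modules) (hW : ExtPow.IsExtPow 2 (Omega.sheaf (X ↘ (Spec (CommRingCat.of k)))) W) :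
    Nonempty (W ≅ (Scheme.Modules.pullback ι).obj (Twist.twistProjSpace 4 k (-1))) := by
  let f := CohB1.ProjSpace.toSpec 4 k
  haveI : SmoothOfRelativeDimension 4 f := OmegaPnLib.smoothRel_projSpace k 4
  haveI : Smooth f := SmoothOfRelativeDimension.smooth 4 f
  haveI : QuasiSeparated f := OmegaPnLib.quasiSeparated_toSpec k 4
  rw [← hι] at hW
  haveI : SmoothOfRelativeDimension 2 (ι ≫ f) := by
    rw [hι]
    refine (CurvOpenLib.smoothOfRelativeDimension_iff_forall _ _).2 ⟨inferInstance, fun x => ?_⟩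
    rw [SmoothPtLib.fibreDimAt_field (X ↘ Spec (CommRingCat.of k)) x, hdim]
    rfl
  haveI : QuasiSeparated (ι ≫ f) := inferInstance
  obtain ⟨T, hT⟩ := ExtTopLib.exists_isExtPow (CohCmpLib.rank_omega f 4)
  obtain ⟨eT⟩ := AdjFormLib.nonempty_top_iso_twist 4 k T hT
  obtain ⟨hreg, -, hadj⟩ := AdjFormLib.regularImmersion_and_iso f ι 4 2 T hT W hW
  let Z := LefPen.ciIdeal G
  let s := Z.subschemeι
  have hks : ι.ker = s.ker := by rw [hker, Scheme.IdealSheafData.ker_subschemeι]
  let e : X ⟶ Z.subscheme := IsClosedImmersion.lift s ι hks.ge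
  have he : e ≫ s = ι := IsClosedImmersion.lift_fac _ _ _
  let e' : Z.subscheme ⟶ X := IsClosedImmersion.lift ι s hks.le
  have he' : e' ≫ ι = s := IsClosedImmersion.lift_fac _ _ _
  haveI : IsIso e := ⟨e', by rw [← cancel_mono ι, Category.assoc, he', he, Category.id_comp],
    by rw [← cancel_mono s, Category.assoc, he, he', Category.id_comp]⟩
  haveI : IsIso e' := ⟨e, by rw [← cancel_mono s, Category.assoc, he, he', Category.id_comp],
    by rw [← cancel_mono ι, Category.assoc, he', he, Category.id_comp]⟩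
  have hregs : RegImm.IsRegularImmersionOfCodim RegImm.Kind.regular 2 s := by
    have h := CanonRestrLib.regCodim_comp e' ι (c := 2) hreg
    rwa [he'] at h
  have hdZ : topologicalKrullDim Z.subscheme ≤ ((4 - 2 : ℕ) : WithBot ℕ∞) := by
    rw [show topologicalKrullDim Z.subscheme = topologicalKrullDim X from
      IsHomeomorph.topologicalKrullDim_eq e' e'.homeomorph.isHomeomorph, hdim]
    rfl
  obtain ⟨a⟩ := CIDivLib.nonempty_conormal_iso (n := 4) (k := k) (a := fun _ : Fin 2 => 2) (fun _ => two_pos) G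
    (by norm_num) hdZ
  haveI : IsLocallyNoetherian (CohB1.ProjSpace 4 k) := LocallyOfFiniteType.isLocallyNoetherian f
  haveI : IsLocallyNoetherian Z.subscheme := LocallyOfFiniteType.isLocallyNoetherian s
  haveI : IsLocallyNoetherian X := LocallyOfFiniteType.isLocallyNoetherian ι
  let A := (Scheme.Modules.pullback s).obj (Twist.twistProjSpace 4 k (-2))
  have hA : PicF.IsInvertible A := AmpleDevLib.isInvertible_pb _ (PicPnLib.twist_inv 4 k (-2))
  obtain ⟨DC, hDC⟩ := ExtTopLib.exists_isExtPow (RegConLib.rank_conormal hregs)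
  obtain ⟨d⟩ := nonempty_det_two hA (ExtPowLib.isExtPow_of_iso_left a hDC)
  obtain ⟨L, hL⟩ := ExtTopLib.exists_isExtPow (RegConLib.rank_conormal (ι := ι) (c := 2) hreg)
  have hL' : ExtPow.IsExtPow 2 (Omega.conormal (e ≫ s)) L := by rw [he]; exact hL
  obtain ⟨b⟩ := CanonRestrLib.det_conormal e s hregs hDC hL'
  obtain ⟨c⟩ := hadj L hL
  let t : ℤ → CubeConsLib.IsoCls (CohB1.ProjSpace 4 k) := fun i => CubeConsLib.cl (Twist.twistProjSpace 4 k i)
  have ht : ∀ i j, t i * t j = t (i + j) := fun i j => CubeConsLib.cl_eq_iff.2 (PicPnLib.twist_add 4 k i j)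
  let p := CubeConsLib.pull ι
  have hLc : CubeConsLib.cl L = p (t (-2 + -2)) := by
    rw [← ht]
    show _ = CubeConsLib.pull ι _
    rw [CubeConsLib.cl_eq_iff.2 ⟨b⟩, ← CubeConsLib.pull_cl, CubeConsLib.cl_eq_iff.2 ⟨d⟩, CubeConsLib.cl_tensor,
      ← CubeConsLib.pull_cl, ← map_mul, CubeConsLib.pull_comp, he]
  have hT' : p (t (-5)) = CubeConsLib.cl W * p (t (-4)) := by
    rw [show CubeConsLib.cl W * p (t (-4)) = CubeConsLib.cl W * CubeConsLib.cl L by rw [hLc]; rfl,
      ← CubeConsLib.cl_tensor, ← CubeConsLib.cl_eq_iff.2 ⟨c⟩, ← CubeConsLib.pull_cl]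
    exact congrArg p (CubeConsLib.cl_eq_iff.2 ⟨eT⟩).symm
  refine CubeConsLib.cl_eq_iff.1 ?_
  show _ = p (t (-1))
  have h0 : p (t 0) = 1 := by
    rw [show t 0 = (1 : CubeConsLib.IsoCls _) from CubeConsLib.cl_eq_iff.2 (PicPnLib.twist_zero 4 k)]
    exact map_one p
  have h := congrArg (· * p (t 4)) hT'
  simp only [mul_assoc, ← map_mul, ht] at h
  norm_num at h
  rw [h0, mul_one] at h
  exact h.symm

end CIQuadCanonLib
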